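import Cfsg.Agent.Lib.Helper7.AutPM.CountM
import Cfsg.Agent.Lib.Helper7.AutPM.InndiagP
import Cfsg.Agent.S2724
import Mathlib

/-!
# The order of the image of the semisimilarity group in `Aut(PΩ⁺_{2m}(q))` (helper5)

Generic: when every field automorphism occurs in a semisimilarity, the image `gammaPOmega F Q` of
the semisimilarity group has order `|Aut F| · |PGO-image|`.  For the form of plus type this gives
`|gammaPOmega| = (2 | 8 | 4) · f · |PΩ⁺_{2m}(q)|`.
-/

set_option autoImplicit false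
set_option linter.unusedSectionVars false
set_option linter.style.haveILetI false

namespace Cfsg.Agent.Lib.Helper5.Tri.CardGamma

open Matrix Cfsg Cfsg.Agent.Lib.H7AutPSp Cfsg.Agent.Lib.H7AutPO Cfsg.Agent.Lib.Helper5.OrthAut
  Cfsg.Agent.H9.Orth Cfsg.Agent.Lib.Helper5.OrthSN Cfsg.Agent.Lib.Helper5.OrthPar
  Cfsg.Agent.Lib.Helper5.OrthCls Cfsg.Agent.Lib.Helper5.OrthPM Cfsg.Agent.Lib.H7AutPM

universe u

section generic

variable {ι : Type} [Fintype ι] [DecidableEq ι] {F : Type u} [Field F] [Fintype F]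
variable {Q : (ι → F) → F}

theorem DhO_range_le_PsO_range : (DhO Q).range ≤ (PsO Q).range := by
  rintro _ ⟨g, rfl⟩
  exact ⟨simIncl Q g, PsO_simIncl Q g⟩

variable (hQ : Cfsg.Geo.IsNondegenerateQuadraticForm Q)
include hQ

/-- the field automorphism of an element of the image of the semisimilarity group -/
noncomputable def rhoR (hn : 7 ≤ Fintype.card ι) : ↥(PsO Q).range →* RingAut F :=
  (PsO Q).rangeRestrict.liftOfSurjective (PsO Q).rangeRestrict_surjective
    ⟨rightO Q, by rw [MonoidHom.ker_rangeRestrict]; exact ker_PsO_le hQ hn⟩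

theorem rhoR_apply (hn : 7 ≤ Fintype.card ι) (x : ↥(GammaO Q)) :
    rhoR hQ hn ((PsO Q).rangeRestrict x) = x.1.right :=
  (PsO Q).rangeRestrict.liftOfRightInverse_comp_apply _ _
    ⟨rightO Q, by rw [MonoidHom.ker_rangeRestrict]; exact ker_PsO_le hQ hn⟩ x

theorem rhoR_surjective (hn : 7 ≤ Fintype.card ι) (hsurj : Function.Surjective (rightO Q)) :
    Function.Surjective (rhoR hQ hn) := by
  intro σ
  obtain ⟨x, hx⟩ := hsurj σ
  exact ⟨(PsO Q).rangeRestrict x, by rw [rhoR_apply, ← hx]; rfl⟩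

theorem rhoR_ker (hn : 7 ≤ Fintype.card ι) :
    (rhoR hQ hn).ker = (DhO Q).range.subgroupOf (PsO Q).range := by
  ext β
  obtain ⟨x, rfl⟩ := (PsO Q).rangeRestrict_surjective β
  rw [MonoidHom.mem_ker, rhoR_apply, Subgroup.mem_subgroupOf]
  show x.1.right = 1 ↔ PsO Q x ∈ (DhO Q).range
  constructor
  · intro h
    have hx : x ∈ (rightO Q).ker := h
    rw [rightO_ker] at hx
    obtain ⟨g, rfl⟩ := hx
    exact ⟨g, (PsO_simIncl Q g).symm⟩
  · rintro ⟨g, hg⟩
    rw [← PsO_simIncl] at hg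
    have h1 : PsO Q ((simIncl Q g)⁻¹ * x) = 1 := by
      rw [map_mul, map_inv, hg, inv_mul_cancel]
    have h2 := (ker_PsO hQ hn _ h1).1
    rw [Subgroup.coe_mul, SemidirectProduct.mul_right, Subgroup.coe_inv,
      SemidirectProduct.inv_right, simIncl_right, inv_one, one_mul] at h2
    exact h2

/-- **the order of the image of the semisimilarity group** -/
theorem card_gamma_eq (hn : 7 ≤ Fintype.card ι) (hsurj : Function.Surjective (rightO Q)) :
    Nat.card ↥(Cfsg.gammaPOmega F Q) = Nat.card (RingAut F) * Nat.card ↥(DhO Q).range := by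
  rw [gammaPOmega_eq]
  have h1 := Subgroup.card_eq_card_quotient_mul_card_subgroup (rhoR hQ hn).ker
  rw [Nat.card_congr (QuotientGroup.quotientKerEquivOfSurjective _
    (rhoR_surjective hQ hn hsurj)).toEquiv, rhoR_ker,
    Nat.card_congr (Subgroup.subgroupOfEquivOfLe (DhO_range_le_PsO_range (Q := Q))).toEquiv] at h1
  exact h1

end generic

section plus

variable {F : Type u} [Field F] [Fintype F] {m : ℕ}

/-- for a form compatible with the field automorphisms every field automorphism occurs -/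
theorem rightO_surjective_of_compat {ι : Type} [Fintype ι] [DecidableEq ι] {Q : (ι → F) → F}
    (hc : FieldCompat Q) : Function.Surjective (rightO Q) := by
  intro σ
  refine ⟨⟨⟨1, σ⟩, 1, fun v => ?_⟩, rfl⟩
  rw [sact_def, Units.val_one, Matrix.one_mulVec, Units.val_one, one_mul]
  exact hc σ v

/-- **odd characteristic**: `|PGO⁺-image| = 4 |PΩ⁺|` or `8 |PΩ⁺|` -/
theorem card_DhO_range_plus_odd (hodd : Odd (Fintype.card F)) (hm : 4 ≤ m) :
    Nat.card (DhO (Cfsg.quadFormPlus m F)).range =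
      (if Odd m ∧ Fintype.card F % 4 = 3 then 4 else 8) *
        Nat.card (Cfsg.POmega F (Cfsg.quadFormPlus m F)) := by
  have hQ := hQP (F := F) (m := m)
  have hn := hnP (m := m) hm
  have hle : Cfsg.Inn (Cfsg.POmega F (Cfsg.quadFormPlus m F)) ≤
      Cfsg.pgoAut F (Cfsg.quadFormPlus m F) := by
    rw [Cfsg.Agent.Lib.H7AutPO.pgoAut_eq]; exact inn_le_DhO_range
  have hinn : Nat.card ((Cfsg.Inn (Cfsg.POmega F (Cfsg.quadFormPlus m F))).subgroupOf
      (Cfsg.pgoAut F (Cfsg.quadFormPlus m F))) =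
      Nat.card (Cfsg.POmega F (Cfsg.quadFormPlus m F)) := by
    rw [Nat.card_congr (Subgroup.subgroupOfEquivOfLe hle).toEquiv, card_inn_pomega hQ hn]
  have key : ∀ {G : Type} [Group G] (φ : ↥(Cfsg.pgoAut F (Cfsg.quadFormPlus m F)) →* G),
      Function.Surjective φ →
      φ.ker = (Cfsg.Inn (Cfsg.POmega F (Cfsg.quadFormPlus m F))).subgroupOf
        (Cfsg.pgoAut F (Cfsg.quadFormPlus m F)) →
      Nat.card (DhO (Cfsg.quadFormPlus m F)).range =
        Nat.card G * Nat.card (Cfsg.POmega F (Cfsg.quadFormPlus m F)) := by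
    intro G _ φ hφ hker
    have h1 := Subgroup.card_eq_card_quotient_mul_card_subgroup φ.ker
    rw [Nat.card_congr (QuotientGroup.quotientKerEquivOfSurjective φ hφ).toEquiv, hker, hinn,
      Cfsg.Agent.Lib.H7AutPO.pgoAut_eq] at h1
    exact h1
  obtain ⟨h1, h2⟩ := Cfsg.Agent.S2724.result hodd hm
  by_cases hc : Odd m ∧ Fintype.card F % 4 = 3
  · rw [if_pos hc]
    obtain ⟨φ, hφ, hker⟩ := h1 hc
    rw [key φ hφ hker]
    congr 1
    rw [Nat.card_eq_fintype_card]
    rfl
  · rw [if_neg hc]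
    obtain ⟨φ, hφ, hker⟩ := h2 hc
    rw [key φ hφ hker, DihedralGroup.nat_card]

/-- **`|gammaPOmega|` for the form of plus type** -/
theorem card_gamma_plus (p f : ℕ) [Fact p.Prime] (hF : Fintype.card F = p ^ f) (m : ℕ)
    (hm : 4 ≤ m) :
    Nat.card ↥(Cfsg.gammaPOmega F (Cfsg.quadFormPlus m F)) =
      (if p = 2 then 2 else if Even (m * (p ^ f - 1) / 2) then 8 else 4) * f *
        Nat.card (Cfsg.POmega F (Cfsg.quadFormPlus m F)) := by
  haveI := Cfsg.Agent.S2690.charP_of_card_pow p f hF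
  rw [card_gamma_eq hQP (hnP hm) (rightO_surjective_of_compat (fieldCompat_plus m)),
    (Cfsg.Agent.S2602.ringAut_cyclic (F := F) p f hF).2]
  by_cases hp : p = 2
  · subst hp
    have h2 : (2 : F) = 0 := by
      have := CharP.cast_eq_zero F 2
      exact_mod_cast this
    rw [if_pos rfl, card_DhO_range_two hQP (hnP hm) h2]
    ring
  · rw [if_neg hp]
    have hpodd : Odd p := (Fact.out : p.Prime).odd_of_ne_two hp
    have hodd : Odd (Fintype.card F) := by rw [hF]; exact hpodd.pow
    rw [card_DhO_range_plus_odd hodd hm, hF]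
    have h3 := even_mul_half_iff m (p ^ f) (by omega) hpodd.pow
    have h4 : Even (m - 1) ↔ Odd m := by
      rw [Nat.even_iff, Nat.odd_iff]
      omega
    rw [h4] at h3
    by_cases hc : Odd m ∧ p ^ f % 4 = 3
    · rw [if_pos hc, if_neg (fun h => (h3.1 h) hc)]
      ring
    · rw [if_neg hc, if_pos (h3.2 hc)]
      ring

end plus

end Cfsg.Agent.Lib.Helper5.Tri.CardGamma
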