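import Mathlib

/-!
# Counting the diagonal outer automorphisms of `PΩ⁺₈(F)` (helper5)

For a finite field `F`, a homomorphism `φ` from `(Fˣ)⁴` that kills every `c` with `c 0 * c 2` and
`c 0 * c 3` squares has a range of at most four elements; if it has four, its kernel consists
of these `c` precisely.  In characteristic two it is trivial.  Field automorphisms preserve the
square classes.
-/

set_option autoImplicit false

namespace Cfsg.Agent.Lib.Helper5.Tri.Count

variable {F : Type*} [Field F] [Finite F]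

omit [Finite F] in
/-- squares among the units and squares in the field -/
theorem isSquare_units_iff (x : Fˣ) : IsSquare x ↔ IsSquare (x : F) := by
  constructor
  · rintro ⟨y, rfl⟩
    exact ⟨(y : F), by rw [Units.val_mul]⟩
  · rintro ⟨b, hb⟩
    have hb0 : b ≠ 0 := by
      intro h0
      rw [h0, mul_zero] at hb
      exact x.ne_zero hb
    refine ⟨Units.mk0 b hb0, ?_⟩
    apply Units.ext
    rw [Units.val_mul, Units.val_mk0, hb]

/-- the square class homomorphism -/
noncomputable def sqHom (F : Type*) [Field F] [Finite F] : Fˣ →* ℤˣ :=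
  (@quadraticChar F _ (Fintype.ofFinite F) (Classical.decEq F)).toUnitHom

theorem sqHom_eq_one_iff (x : Fˣ) : sqHom F x = 1 ↔ IsSquare x := by
  rw [isSquare_units_iff,
    ← @quadraticChar_one_iff_isSquare F _ (Fintype.ofFinite F) (Classical.decEq F) _ x.ne_zero]
  unfold sqHom
  rw [← MulChar.coe_toUnitHom, Units.ext_iff, Units.val_one]

/-- the pair of square classes attached to `c` -/
noncomputable def chi2 (F : Type*) [Field F] [Finite F] : (Fin 4 → Fˣ) →* ℤˣ × ℤˣ where
  toFun c := (sqHom F (c 0 * c 2), sqHom F (c 0 * c 3))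
  map_one' := by
    show (sqHom F (1 * 1), sqHom F (1 * 1)) = 1
    rw [mul_one, map_one]
    rfl
  map_mul' a b := by
    show (sqHom F (a 0 * b 0 * (a 2 * b 2)), sqHom F (a 0 * b 0 * (a 3 * b 3)))
      = (sqHom F (a 0 * a 2), sqHom F (a 0 * a 3)) * (sqHom F (b 0 * b 2), sqHom F (b 0 * b 3))
    rw [Prod.mk_mul_mk, ← map_mul, ← map_mul, mul_mul_mul_comm (a 0) (b 0) (a 2) (b 2),
      mul_mul_mul_comm (a 0) (b 0) (a 3) (b 3)]

theorem mem_ker_chi2 (c : Fin 4 → Fˣ) :
    c ∈ (chi2 F).ker ↔ IsSquare (c 0 * c 2) ∧ IsSquare (c 0 * c 3) := by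
  rw [MonoidHom.mem_ker]
  show (sqHom F (c 0 * c 2), sqHom F (c 0 * c 3)) = 1 ↔ _
  rw [Prod.mk_eq_one, sqHom_eq_one_iff, sqHom_eq_one_iff]

theorem index_ker_chi2_le : (chi2 F).ker.index ≤ 4 := by
  rw [Subgroup.index_ker]
  calc Nat.card ↥(chi2 F).range ≤ Nat.card (ℤˣ × ℤˣ) :=
        Nat.card_le_card_of_injective _ Subtype.val_injective
    _ = 4 := by
        rw [Nat.card_prod, Nat.card_eq_fintype_card, Fintype.card_units_int]

theorem index_ker_chi2_ne_zero : (chi2 F).ker.index ≠ 0 :=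
  Subgroup.index_ne_zero_of_finite

variable {G : Type*} [Group G]

theorem ker_chi2_le (φ : (Fin 4 → Fˣ) →* G)
    (hφ : ∀ c, IsSquare (c 0 * c 2) → IsSquare (c 0 * c 3) → φ c = 1) : (chi2 F).ker ≤ φ.ker := by
  intro c hc
  rw [mem_ker_chi2] at hc
  rw [MonoidHom.mem_ker]
  exact hφ c hc.1 hc.2

/-- (a) the range has at most four elements -/
theorem card_range_le_four (φ : (Fin 4 → Fˣ) →* G)
    (hφ : ∀ c, IsSquare (c 0 * c 2) → IsSquare (c 0 * c 3) → φ c = 1) :
    Nat.card ↥φ.range ≤ 4 := by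
  rw [← Subgroup.index_ker]
  have h1 : φ.ker.index ∣ (chi2 F).ker.index := Subgroup.index_dvd_of_le (ker_chi2_le φ hφ)
  exact (Nat.le_of_dvd (Nat.pos_of_ne_zero index_ker_chi2_ne_zero) h1).trans index_ker_chi2_le

/-- (b) if the range has four elements, the kernel is as small as possible -/
theorem isSquare_of_card_range (φ : (Fin 4 → Fˣ) →* G)
    (hφ : ∀ c, IsSquare (c 0 * c 2) → IsSquare (c 0 * c 3) → φ c = 1)
    (h4 : 4 ≤ Nat.card ↥φ.range) {c : Fin 4 → Fˣ} (hc : φ c = 1) :
    IsSquare (c 0 * c 2) ∧ IsSquare (c 0 * c 3) := by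
  rw [← Subgroup.index_ker] at h4
  have hle := ker_chi2_le φ hφ
  have h1 : φ.ker.index ∣ (chi2 F).ker.index := Subgroup.index_dvd_of_le hle
  have h2 : (chi2 F).ker.index ≤ 4 := index_ker_chi2_le
  have h3 := Nat.le_of_dvd (Nat.pos_of_ne_zero index_ker_chi2_ne_zero) h1
  have h5 : (chi2 F).ker.index = φ.ker.index := by omega
  have h6 := Subgroup.relIndex_mul_index hle
  rw [h5] at h6
  have h7 : (chi2 F).ker.relIndex φ.ker = 1 := by
    have hpos : 0 < φ.ker.index := by omega
    exact Nat.eq_of_mul_eq_mul_right hpos (by rw [h6, one_mul])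
  have h8 : φ.ker ≤ (chi2 F).ker := Subgroup.relIndex_eq_one.1 h7
  exact (mem_ker_chi2 c).1 (h8 ((MonoidHom.mem_ker).2 hc))

/-- (c) in characteristic two every unit is a square -/
theorem isSquare_unit_of_char_two [CharP F 2] (x : Fˣ) : IsSquare x := by
  have := Fintype.ofFinite F
  rw [isSquare_units_iff]
  exact FiniteField.isSquare_of_char_two (ringChar.eq F 2) _

theorem eq_one_of_char_two [CharP F 2] (φ : (Fin 4 → Fˣ) →* G)
    (hφ : ∀ c, IsSquare (c 0 * c 2) → IsSquare (c 0 * c 3) → φ c = 1) (c : Fin 4 → Fˣ) :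
    φ c = 1 :=
  hφ c (isSquare_unit_of_char_two _) (isSquare_unit_of_char_two _)

/-- (d) field automorphisms preserve the square classes -/
theorem sqHom_map (ψ : F ≃+* F) (x : Fˣ) : sqHom F (Units.map (ψ : F →* F) x) = sqHom F x := by
  have key : ∀ (θ : F ≃+* F) (y : Fˣ), IsSquare y → IsSquare (Units.map (θ : F →* F) y) := by
    rintro θ y ⟨z, rfl⟩
    exact ⟨Units.map (θ : F →* F) z, map_mul _ _ _⟩
  have hiff : IsSquare (Units.map (ψ : F →* F) x) ↔ IsSquare x := by
    constructor
    · intro h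
      have := key ψ.symm _ h
      have e : Units.map (ψ.symm : F →* F) (Units.map (ψ : F →* F) x) = x := by
        apply Units.ext
        show ψ.symm (ψ (x : F)) = x
        exact ψ.symm_apply_apply _
      rwa [e] at this
    · exact key ψ x
  rcases Int.units_eq_one_or (sqHom F x) with h1 | h1
  · rw [h1, sqHom_eq_one_iff, hiff, ← sqHom_eq_one_iff, h1]
  · rcases Int.units_eq_one_or (sqHom F (Units.map (ψ : F →* F) x)) with h2 | h2
    · exfalso
      rw [sqHom_eq_one_iff, hiff, ← sqHom_eq_one_iff, h1] at h2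
      exact absurd h2 (by decide)
    · rw [h1, h2]

theorem isSquare_map_mul_inv (ψ : F ≃+* F) (x : Fˣ) :
    IsSquare (Units.map (ψ : F →* F) x * x⁻¹) := by
  rw [← sqHom_eq_one_iff, map_mul, map_inv, sqHom_map, mul_inv_cancel]

end Cfsg.Agent.Lib.Helper5.Tri.Count
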