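import Cfsg.Agent.Lib.Helper5.Tri.CardGamma
import Cfsg.Agent.Lib.Helper5.Grp.DihProd
import Cfsg.Agent.Lib.Helper7.AutPM.OutMOdd
import Mathlib

/-!
# `Out(PΩ⁺_{2m}(q))` given the factorisation (helper5)

With every automorphism induced by a semisimilarity (`FacG`, true for `m ≥ 5`):
`Out ≃ Z₂ × Z_f` in characteristic two, and for odd `q` it is `Z₂ × Z₂ × Z_f` when `m` is odd and
`q ≡ 3 (mod 4)`, and `D₈ × Z_f` otherwise.  The class of the standard Frobenius automorphism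
commutes with the class of the reflection in `e₁ + f₁`; it normalises the image of `PGO`, and on
`D₈` it induces the identity or the conjugation by that reflection.
-/

set_option autoImplicit false
set_option linter.unusedSectionVars false
set_option linter.style.haveILetI false

namespace Cfsg.Agent.Lib.Helper5.Tri.OutPlus

open Matrix Cfsg Cfsg.Agent.Lib.H7AutPSp Cfsg.Agent.Lib.H7AutPO Cfsg.Agent.Lib.Helper5.OrthAut
  Cfsg.Agent.H9.Orth Cfsg.Agent.Lib.Helper5.OrthSN Cfsg.Agent.Lib.Helper5.OrthPar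
  Cfsg.Agent.Lib.Helper5.OrthCls Cfsg.Agent.Lib.Helper5.OrthPM Cfsg.Agent.Lib.H7AutPM
  Cfsg.Agent.Lib.Helper5.Tri.CardGamma Cfsg.Agent.Lib.Helper5.Grp.DihProd

universe u

section generic

variable {ι : Type} [Fintype ι] [DecidableEq ι] {F : Type u} [Field F]
variable {Q : (ι → F) → F}

/-- the field automorphisms inside the semisimilarity group of a compatible form -/
def fieldIncl (hc : FieldCompat Q) : RingAut F →* ↥(GammaO Q) where
  toFun σ := ⟨SemidirectProduct.inr σ, 1, fun v => by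
    rw [sact_def, SemidirectProduct.left_inr, SemidirectProduct.right_inr, Units.val_one,
      Matrix.one_mulVec, Units.val_one, one_mul]
    exact hc σ v⟩
  map_one' := Subtype.ext (map_one _)
  map_mul' a b := Subtype.ext (map_mul _ a b)

theorem fieldIncl_right (hc : FieldCompat Q) (σ : RingAut F) : (fieldIncl hc σ).1.right = σ := rfl

theorem fieldIncl_left (hc : FieldCompat Q) (σ : RingAut F) : (fieldIncl hc σ).1.left = 1 := rfl

theorem conjSim_fieldIncl (hc : FieldCompat Q) (σ : RingAut F)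
    (g : ↥(Cfsg.Geo.quadSimilarityGroup (F := F) Q)) :
    (conjSim (fieldIncl hc σ) g).1 = gmapI σ g.1 := by
  rw [conjSim_val, conjG_apply, fieldIncl_left, fieldIncl_right, one_mul, inv_one, mul_one]

end generic

section plus

variable {F : Type u} [Field F] [Fintype F] {m : ℕ}
variable (hm : 4 ≤ m) (hFac : FacG (Cfsg.quadFormPlus m F))

/-- the field automorphism of an automorphism of `PΩ⁺` -/
noncomputable def rhoP : MulAut (Cfsg.POmega F (Cfsg.quadFormPlus m F)) →* RingAut F :=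
  rho hQP (hnP hm) (PsO_surjective _ hFac)

theorem rhoP_PsO (x : ↥(GammaO (Cfsg.quadFormPlus m F))) :
    rhoP hm hFac (PsO _ x) = x.1.right := rho_PsO _ _ _ x

theorem rhoP_ker : (rhoP hm hFac).ker = (DhO (Cfsg.quadFormPlus m F)).range :=
  rho_ker _ _ _

/-- the field automorphism of an outer automorphism class -/
noncomputable def rhoBarP : Cfsg.Out (Cfsg.POmega F (Cfsg.quadFormPlus m F)) →* RingAut F :=
  QuotientGroup.lift _ (rhoP hm hFac) (by
    intro β hβ
    rw [rhoP_ker]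
    exact inn_le_DhO_range hβ)

theorem rhoBarP_mk (β : MulAut (Cfsg.POmega F (Cfsg.quadFormPlus m F))) :
    rhoBarP hm hFac (QuotientGroup.mk β) = rhoP hm hFac β := rfl

theorem rhoP_of_mem_pgo (d : MulAut (Cfsg.POmega F (Cfsg.quadFormPlus m F)))
    (hd : d ∈ Cfsg.pgoAut F (Cfsg.quadFormPlus m F)) : rhoP hm hFac d = 1 := by
  rw [Cfsg.Agent.Lib.H7AutPO.pgoAut_eq, ← rhoP_ker hm hFac] at hd
  exact hd

/-- the standard Frobenius automorphism of `PΩ⁺` -/
noncomputable def frobP (p : ℕ) [Fact p.Prime] [CharP F p] :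
    MulAut (Cfsg.POmega F (Cfsg.quadFormPlus m F)) :=
  PsO _ (fieldIncl (fieldCompat_plus m) (frobeniusEquiv F p : RingAut F))

theorem rhoP_frobP (p : ℕ) [Fact p.Prime] [CharP F p] :
    rhoP hm hFac (frobP p) = (frobeniusEquiv F p : RingAut F) := by
  unfold frobP
  rw [rhoP_PsO, fieldIncl_right]

theorem frobP_pow (p : ℕ) [Fact p.Prime] [CharP F p] {f : ℕ} (hF : Fintype.card F = p ^ f) :
    (frobP (F := F) (m := m) p) ^ f = 1 := by
  unfold frobP
  rw [← map_pow, ← map_pow, ← orderOf_frob p hF, pow_orderOf_eq_one, map_one, map_one]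

/-- the Frobenius automorphism normalises the image of `PGO` -/
theorem frobP_conj_mem (p : ℕ) [Fact p.Prime] [CharP F p]
    (d : MulAut (Cfsg.POmega F (Cfsg.quadFormPlus m F)))
    (hd : d ∈ Cfsg.pgoAut F (Cfsg.quadFormPlus m F)) :
    frobP p * d * (frobP p)⁻¹ ∈ Cfsg.pgoAut F (Cfsg.quadFormPlus m F) := by
  rw [Cfsg.Agent.Lib.H7AutPO.pgoAut_eq] at hd ⊢
  obtain ⟨g, rfl⟩ := hd
  unfold frobP
  rw [PsO_conj_DhO]
  exact ⟨_, rfl⟩

/-- the class of the reflection in `e₁ + f₁` -/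
noncomputable def reflA (hm0 : 0 < m) : MulAut (Cfsg.POmega F (Cfsg.quadFormPlus m F)) :=
  DhO (Cfsg.quadFormPlus m F) ⟨reflP hm0, reflP_mem_sim hm0⟩

theorem reflA_mem (hm0 : 0 < m) :
    reflA (F := F) hm0 ∈ Cfsg.pgoAut F (Cfsg.quadFormPlus m F) := by
  rw [Cfsg.Agent.Lib.H7AutPO.pgoAut_eq]
  exact ⟨_, rfl⟩

theorem reflA_sq (hm0 : 0 < m) : reflA (F := F) hm0 * reflA hm0 = 1 := by
  unfold reflA
  rw [← map_mul]
  have : (⟨reflP hm0, reflP_mem_sim hm0⟩ :
      ↥(Cfsg.Geo.quadSimilarityGroup (F := F) (Cfsg.quadFormPlus m F))) *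
      ⟨reflP hm0, reflP_mem_sim hm0⟩ = 1 := by
    apply Subtype.ext
    exact rf_mul_self hQP _
  rw [this, map_one]

/-- the Frobenius automorphism commutes with the reflection in `e₁ + f₁` -/
theorem frobP_comm_reflA (p : ℕ) [Fact p.Prime] [CharP F p] (hm0 : 0 < m) :
    Commute (frobP (F := F) p) (reflA hm0) := by
  have h1 : frobP (F := F) p * reflA hm0 * (frobP p)⁻¹ = reflA hm0 := by
    unfold frobP reflA
    rw [PsO_conj_DhO]
    congr 1
    apply Subtype.ext
    rw [conjSim_fieldIncl]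
    exact gmapI_reflP hm0 _
  show frobP (F := F) p * reflA hm0 = reflA hm0 * frobP p
  have := congrArg (fun z => z * frobP (F := F) (m := m) p) h1
  simp only [inv_mul_cancel_right] at this
  exact this

theorem reflA_not_mem_inn : reflA (F := F) (by omega : 0 < m) ∉
    Cfsg.Inn (Cfsg.POmega F (Cfsg.quadFormPlus m F)) := by
  have hQ := hQP (F := F) (m := m)
  have hgen : Cfsg.isometryGroup F (Cfsg.quadFormPlus m F) ≤ RR hQ :=
    iso_le_RR hQ (Or.inr (by rw [card_IP]; omega))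
  have heven : Even (Fintype.card (Fin m ⊕ Fin m)) := by rw [card_IP]; exact even_two_mul _
  exact DhO_not_mem_inn_of_not_par hQ (hnP hm) hgen heven _ (reflP_mem _) (not_par_reflP _)

include hm hFac in
theorem rhoP_surjective : Function.Surjective (rhoP hm hFac) := by
  intro σ
  exact ⟨PsO _ (fieldIncl (fieldCompat_plus m) σ), by rw [rhoP_PsO, fieldIncl_right]⟩

include hm hFac in
/-- **`|Out(PΩ⁺)|`** -/
theorem card_out_plus (p : ℕ) [Fact p.Prime] [CharP F p] {f : ℕ}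
    (hF : Fintype.card F = p ^ f) (c : ℕ)
    (hc : Nat.card (DhO (Cfsg.quadFormPlus m F)).range =
      c * Nat.card (Cfsg.POmega F (Cfsg.quadFormPlus m F))) :
    Nat.card (Cfsg.Out (Cfsg.POmega F (Cfsg.quadFormPlus m F))) = c * f := by
  have h0 := Subgroup.card_eq_card_quotient_mul_card_subgroup (rhoP hm hFac).ker
  rw [Nat.card_congr (QuotientGroup.quotientKerEquivOfSurjective _
    (rhoP_surjective hm hFac)).toEquiv, (Cfsg.Agent.S2602.ringAut_cyclic (F := F) p f hF).2,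
    rhoP_ker, hc] at h0
  have h1 := Subgroup.card_eq_card_quotient_mul_card_subgroup
    (Cfsg.Inn (Cfsg.POmega F (Cfsg.quadFormPlus m F)))
  rw [h0, card_inn_pomega hQP (hnP hm)] at h1
  have hpos : 0 < Nat.card (Cfsg.POmega F (Cfsg.quadFormPlus m F)) := Nat.card_pos
  apply Nat.eq_of_mul_eq_mul_right hpos
  rw [← h1]
  ring

/-- the image of `PGO` in `Out` -/
noncomputable def pgoOut : ↥(Cfsg.pgoAut F (Cfsg.quadFormPlus m F)) →*
    Cfsg.Out (Cfsg.POmega F (Cfsg.quadFormPlus m F)) :=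
  (QuotientGroup.mk' _).comp (Cfsg.pgoAut F (Cfsg.quadFormPlus m F)).subtype

theorem pgoOut_apply (d : ↥(Cfsg.pgoAut F (Cfsg.quadFormPlus m F))) :
    pgoOut d = QuotientGroup.mk d.1 := rfl

theorem pgoOut_ker : (pgoOut (F := F) (m := m)).ker =
    (Cfsg.Inn (Cfsg.POmega F (Cfsg.quadFormPlus m F))).subgroupOf
      (Cfsg.pgoAut F (Cfsg.quadFormPlus m F)) := by
  ext d
  rw [MonoidHom.mem_ker, pgoOut_apply, QuotientGroup.eq_one_iff, Subgroup.mem_subgroupOf]

/-- the embedding of the quotient of the image of `PGO` by `Inn` into `Out` -/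
noncomputable def embOut {D : Type*} [Group D]
    (φ : ↥(Cfsg.pgoAut F (Cfsg.quadFormPlus m F)) →* D) (hφ : Function.Surjective φ)
    (hker : φ.ker = (Cfsg.Inn (Cfsg.POmega F (Cfsg.quadFormPlus m F))).subgroupOf
      (Cfsg.pgoAut F (Cfsg.quadFormPlus m F))) :
    D →* Cfsg.Out (Cfsg.POmega F (Cfsg.quadFormPlus m F)) :=
  φ.liftOfSurjective hφ ⟨pgoOut, by rw [pgoOut_ker, hker]⟩

theorem embOut_apply {D : Type*} [Group D]
    (φ : ↥(Cfsg.pgoAut F (Cfsg.quadFormPlus m F)) →* D) (hφ : Function.Surjective φ)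
    (hker : φ.ker = (Cfsg.Inn (Cfsg.POmega F (Cfsg.quadFormPlus m F))).subgroupOf
      (Cfsg.pgoAut F (Cfsg.quadFormPlus m F)))
    (d : ↥(Cfsg.pgoAut F (Cfsg.quadFormPlus m F))) :
    embOut φ hφ hker (φ d) = QuotientGroup.mk d.1 :=
  φ.liftOfRightInverse_comp_apply _ _ ⟨pgoOut, by rw [pgoOut_ker, hker]⟩ d

theorem embOut_injective {D : Type*} [Group D]
    (φ : ↥(Cfsg.pgoAut F (Cfsg.quadFormPlus m F)) →* D) (hφ : Function.Surjective φ)
    (hker : φ.ker = (Cfsg.Inn (Cfsg.POmega F (Cfsg.quadFormPlus m F))).subgroupOf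
      (Cfsg.pgoAut F (Cfsg.quadFormPlus m F))) :
    Function.Injective (embOut φ hφ hker) := by
  rw [injective_iff_map_eq_one]
  intro t ht
  obtain ⟨d, rfl⟩ := hφ t
  rw [embOut_apply] at ht
  have h1 : d ∈ (pgoOut (F := F) (m := m)).ker := ht
  rw [pgoOut_ker, ← hker] at h1
  exact h1

include hm hFac in
theorem rhoBarP_embOut {D : Type*} [Group D]
    (φ : ↥(Cfsg.pgoAut F (Cfsg.quadFormPlus m F)) →* D) (hφ : Function.Surjective φ)
    (hker : φ.ker = (Cfsg.Inn (Cfsg.POmega F (Cfsg.quadFormPlus m F))).subgroupOf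
      (Cfsg.pgoAut F (Cfsg.quadFormPlus m F))) (t : D) :
    rhoBarP hm hFac (embOut φ hφ hker t) = 1 := by
  obtain ⟨d, rfl⟩ := hφ t
  rw [embOut_apply, rhoBarP_mk]
  exact rhoP_of_mem_pgo hm hFac d.1 d.2

/-- the class of the Frobenius automorphism -/
noncomputable def frobOut (p : ℕ) [Fact p.Prime] [CharP F p] :
    Cfsg.Out (Cfsg.POmega F (Cfsg.quadFormPlus m F)) := QuotientGroup.mk (frobP p)

theorem frobOut_pow (p : ℕ) [Fact p.Prime] [CharP F p] {f : ℕ} (hF : Fintype.card F = p ^ f) :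
    (frobOut (F := F) (m := m) p) ^ f = 1 := by
  unfold frobOut
  rw [← QuotientGroup.mk_pow, frobP_pow p hF]
  rfl

include hm hFac in
theorem orderOf_rhoBarP_frobOut (p : ℕ) [Fact p.Prime] [CharP F p] {f : ℕ}
    (hF : Fintype.card F = p ^ f) : orderOf (rhoBarP hm hFac (frobOut p)) = f := by
  unfold frobOut
  rw [rhoBarP_mk, rhoP_frobP, orderOf_frob p hF]

theorem frobOut_comm_refl (p : ℕ) [Fact p.Prime] [CharP F p] (hm0 : 0 < m) :
    Commute (frobOut (F := F) p)
      (QuotientGroup.mk (reflA hm0) : Cfsg.Out (Cfsg.POmega F (Cfsg.quadFormPlus m F))) := by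
  show (QuotientGroup.mk (frobP p) : Cfsg.Out (Cfsg.POmega F (Cfsg.quadFormPlus m F))) *
    QuotientGroup.mk (reflA hm0) = QuotientGroup.mk (reflA hm0) * QuotientGroup.mk (frobP p)
  rw [← QuotientGroup.mk_mul, ← QuotientGroup.mk_mul, (frobP_comm_reflA p hm0).eq]

include hm hFac in
/-- **characteristic two: `Out(PΩ⁺) ≃ Z₂ × Z_f`** -/
theorem out_plus_two {f : ℕ} (hF : Fintype.card F = 2 ^ f) :
    Nonempty (Cfsg.Out (Cfsg.POmega F (Cfsg.quadFormPlus m F)) ≃*
      Multiplicative (ZMod 2 × ZMod f)) := by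
  haveI : Fact (Nat.Prime 2) := ⟨Nat.prime_two⟩
  haveI := Cfsg.Agent.S2690.charP_of_card_pow 2 f hF
  have h2 : (2 : F) = 0 := by
    have := CharP.cast_eq_zero F 2
    exact_mod_cast this
  have hf0 : f ≠ 0 := by
    rintro rfl
    rw [pow_zero] at hF
    have := Fintype.one_lt_card (α := F)
    omega
  have hcard := card_out_plus hm hFac 2 hF 2 (card_DhO_range_two hQP (hnP hm) h2)
  haveI : Finite (Cfsg.Out (Cfsg.POmega F (Cfsg.quadFormPlus m F))) :=
    Nat.finite_of_card_ne_zero (by rw [hcard]; omega)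
  have hm0 : 0 < m := by omega
  set δ : Cfsg.Out (Cfsg.POmega F (Cfsg.quadFormPlus m F)) := QuotientGroup.mk (reflA hm0)
    with hδ
  have hδ1 : δ ≠ 1 := fun h => reflA_not_mem_inn hm ((QuotientGroup.eq_one_iff _).1 h)
  have hδ2 : δ ^ 2 = 1 := by
    rw [hδ, pow_two, ← QuotientGroup.mk_mul, reflA_sq]
    rfl
  have hδord : orderOf δ = 2 := orderOf_eq_prime hδ2 hδ1
  obtain ⟨e, he, hr⟩ := exists_zmod_hom δ 2 hδord
  have hmem : ∀ d, ∃ j : ℤ, δ ^ j = e d := fun d =>
    Subgroup.mem_zpowers_iff.1 (by rw [← hr]; exact ⟨d, rfl⟩)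
  have hρδ : rhoBarP hm hFac δ = 1 := by
    rw [hδ, rhoBarP_mk]
    exact rhoP_of_mem_pgo hm hFac _ (reflA_mem hm0)
  have hρw := orderOf_rhoBarP_frobOut hm hFac 2 hF
  obtain ⟨E⟩ := equiv_prod_zmod (rhoBarP hm hFac) e he
    (fun d => by
      obtain ⟨j, hj⟩ := hmem d
      rw [← hj, map_zpow, hρδ, _root_.one_zpow])
    (frobOut 2)
    (fun d => by
      obtain ⟨j, hj⟩ := hmem d
      rw [← hj]
      exact ((frobOut_comm_refl 2 hm0).symm).zpow_left j)
    (orderOf_eq_of_pow _ (frobOut_pow 2 hF) hρw) hρw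
    (by
      have h1 : Nat.card (Multiplicative (ZMod 2)) = 2 := by
        rw [Nat.card_congr Multiplicative.toAdd]; exact Nat.card_zmod 2
      rw [h1, hcard])
  exact ⟨E.trans (MulEquiv.prodMultiplicative (ZMod 2) (ZMod f)).symm⟩

include hm hFac in
set_option maxHeartbeats 1000000 in
/-- **odd `q`, `m` odd and `q ≡ 3 (mod 4)`: `Out(PΩ⁺) ≃ Z₂ × Z₂ × Z_f`** -/
theorem out_plus_odd_klein (p : ℕ) [Fact p.Prime] [CharP F p] {f : ℕ}
    (hF : Fintype.card F = p ^ f) (hodd : Odd (Fintype.card F))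
    (hcase : Odd m ∧ Fintype.card F % 4 = 3) :
    Nonempty (Cfsg.Out (Cfsg.POmega F (Cfsg.quadFormPlus m F)) ≃*
      Multiplicative (ZMod 2 × ZMod 2 × ZMod f)) := by
  classical
  have h2 : (2 : F) ≠ 0 := two_ne_zero_of_odd_card hodd
  have hQ := hQP (F := F) (m := m)
  have hf0 : f ≠ 0 := by
    rintro rfl
    rw [pow_zero] at hF
    have := Fintype.one_lt_card (α := F)
    omega
  have hcard : Nat.card (Cfsg.Out (Cfsg.POmega F (Cfsg.quadFormPlus m F))) = 4 * f := by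
    apply card_out_plus hm hFac p hF 4
    rw [card_DhO_range_plus_odd hodd hm, if_pos hcase]
  haveI : Finite (Cfsg.Out (Cfsg.POmega F (Cfsg.quadFormPlus m F))) :=
    Nat.finite_of_card_ne_zero (by rw [hcard]; omega)
  have hgen := Cfsg.Agent.H9.Orth.iso_le_RR hQ (Or.inl (card_ne_two_of_odd_card hodd))
  -- `-1 ∉ Ω`
  have hno : ¬ ∃ g : ↥(Cfsg.isometryGroup F (Cfsg.quadFormPlus m F)),
      g ∈ Cfsg.Omega F (Cfsg.quadFormPlus m F) ∧
      ((g : GL (Fin m ⊕ Fin m) F) : Matrix (Fin m ⊕ Fin m) (Fin m ⊕ Fin m) F) = -1 := by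
    have hiff := plus_diag_iff (F := F) m hodd m le_rfl
    rw [diagonal_dP_self] at hiff
    have hpow := pow_mod_four_eq_one (Fintype.card F) m hodd
    intro hex
    rcases hpow.1 (hiff.1 hex) with h1 | h1
    · exact (Nat.not_even_iff_odd.2 hcase.1) h1
    · omega
  have hpso : Cfsg.psoAut F (Cfsg.quadFormPlus m F) ≤
      Cfsg.Inn (Cfsg.POmega F (Cfsg.quadFormPlus m F)) :=
    Subgroup.relIndex_eq_one.1 (relIndex_inn_pso_of_not hQ (hnP hm) h2 hgen
      (by rw [card_IP]; exact even_two_mul _) hno)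
  obtain ⟨φ, hφ, hker⟩ := (Cfsg.Agent.S2724.result hodd hm).1 hcase
  have hρw := orderOf_rhoBarP_frobOut hm hFac p hF
  obtain ⟨E⟩ := equiv_prod_zmod (rhoBarP hm hFac) (embOut φ hφ hker)
    (embOut_injective φ hφ hker) (rhoBarP_embOut hm hFac φ hφ hker) (frobOut p)
    (fun t => by
      obtain ⟨d, rfl⟩ := hφ t
      rw [embOut_apply]
      have hd : d.1 ∈ (DhO (Cfsg.quadFormPlus m F)).range := by
        rw [← Cfsg.Agent.Lib.H7AutPO.pgoAut_eq]
        exact d.2
      obtain ⟨g, hg⟩ := hd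
      have h1 : frobP (F := F) (m := m) p * d.1 * (frobP p)⁻¹ * d.1⁻¹ ∈
          Cfsg.Inn (Cfsg.POmega F (Cfsg.quadFormPlus m F)) := by
        rw [← hg]
        exact hpso (PsO_comm_DhO_mem_pso hQ (hnP hm) h2 m card_IP _ g)
      have h3 : (QuotientGroup.mk (frobP (F := F) (m := m) p * d.1 * (frobP p)⁻¹ * d.1⁻¹) :
          Cfsg.Out (Cfsg.POmega F (Cfsg.quadFormPlus m F))) = 1 :=
        (QuotientGroup.eq_one_iff _).2 h1
      rw [QuotientGroup.mk_mul, QuotientGroup.mk_mul, QuotientGroup.mk_mul, QuotientGroup.mk_inv,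
        QuotientGroup.mk_inv] at h3
      have h4 := mul_inv_eq_one.1 h3
      exact (mul_inv_eq_iff_eq_mul.1 h4).symm)
    (orderOf_eq_of_pow _ (frobOut_pow p hF) hρw) hρw
    (by
      have h1 : Nat.card (Multiplicative (ZMod 2 × ZMod 2)) = 4 := by
        rw [Nat.card_eq_fintype_card]
        rfl
      rw [h1, hcard])
  exact ⟨(E.trans (MulEquiv.prodMultiplicative (ZMod 2 × ZMod 2) (ZMod f)).symm).trans
    (AddEquiv.toMultiplicative (AddEquiv.prodAssoc : (ZMod 2 × ZMod 2) × ZMod f ≃+ _))⟩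

include hm hFac in
set_option maxHeartbeats 1000000 in
/-- **odd `q`, otherwise: `Out(PΩ⁺) ≃ D₈ × Z_f`** -/
theorem out_plus_odd_dihedral (p : ℕ) [Fact p.Prime] [CharP F p] {f : ℕ}
    (hF : Fintype.card F = p ^ f) (hodd : Odd (Fintype.card F))
    (hcase : ¬ (Odd m ∧ Fintype.card F % 4 = 3)) :
    Nonempty (Cfsg.Out (Cfsg.POmega F (Cfsg.quadFormPlus m F)) ≃*
      DihedralGroup 4 × Multiplicative (ZMod f)) := by
  classical
  have h2 : (2 : F) ≠ 0 := two_ne_zero_of_odd_card hodd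
  have hQ := hQP (F := F) (m := m)
  have hm0 : 0 < m := by omega
  haveI : Nonempty (Fin m ⊕ Fin m) := ⟨Sum.inl ⟨0, hm0⟩⟩
  have hf0 : f ≠ 0 := by
    rintro rfl
    rw [pow_zero] at hF
    have := Fintype.one_lt_card (α := F)
    omega
  have hcard : Nat.card (Cfsg.Out (Cfsg.POmega F (Cfsg.quadFormPlus m F))) = 8 * f := by
    apply card_out_plus hm hFac p hF 8
    rw [card_DhO_range_plus_odd hodd hm, if_neg hcase]
  haveI : Finite (Cfsg.Out (Cfsg.POmega F (Cfsg.quadFormPlus m F))) :=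
    Nat.finite_of_card_ne_zero (by rw [hcard]; omega)
  have hgen := Cfsg.Agent.H9.Orth.iso_le_RR hQ (Or.inl (card_ne_two_of_odd_card hodd))
  obtain ⟨φ, hφ, hker⟩ := (Cfsg.Agent.S2724.result hodd hm).2 hcase
  -- the subgroup of index two
  set N : Subgroup ↥(Cfsg.pgoAut F (Cfsg.quadFormPlus m F)) :=
    (inndiagGen hQ h2 m card_IP).subgroupOf (Cfsg.pgoAut F (Cfsg.quadFormPlus m F)) with hN
  have hNidx : N.index = 2 := relIndex_inndiagGen_pgo hQ (hnP hm) h2 m card_IP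
  have hkerN : φ.ker ≤ N := by
    rw [hker]
    intro d hd
    rw [Subgroup.mem_subgroupOf] at hd
    rw [hN, Subgroup.mem_subgroupOf]
    exact inn_le_inndiagGen hQ (hnP hm) h2 hgen m card_IP hd
  set a : ↥(Cfsg.pgoAut F (Cfsg.quadFormPlus m F)) := ⟨reflA hm0, reflA_mem hm0⟩ with ha
  have haN : a ∉ N := by
    intro h
    rw [hN, Subgroup.mem_subgroupOf] at h
    obtain ⟨g, hg, hga⟩ := h
    have hg1 : chiDet hQ h2 m card_IP g = 1 := hg
    have h3 : g⁻¹ * (⟨reflP hm0, reflP_mem_sim hm0⟩ :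
        ↥(Cfsg.Geo.quadSimilarityGroup (F := F) (Cfsg.quadFormPlus m F))) ∈
        (Cfsg.Agent.Lib.Helper5.OrthAut.conjHom (Cfsg.quadFormPlus m F)).ker := by
      rw [MonoidHom.mem_ker, map_mul, map_inv, hga]
      show (reflA hm0)⁻¹ * Cfsg.Agent.Lib.Helper5.OrthAut.conjHom (Cfsg.quadFormPlus m F)
        ⟨reflP hm0, reflP_mem_sim hm0⟩ = 1
      unfold reflA
      rw [DhO_eq_conjHom, inv_mul_cancel]
    have h4 := ker_le_chiDet hQ (hnP hm) h2 m card_IP h3
    rw [MonoidHom.mem_ker, map_mul, map_inv, hg1, inv_one, one_mul] at h4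
    have h5 := chiDet_rf hQ h2 m card_IP (vP hm0) (by rw [Q_vP]; exact one_ne_zero)
    have h6 : chiDet hQ h2 m card_IP (⟨reflP hm0, reflP_mem_sim hm0⟩ :
        ↥(Cfsg.Geo.quadSimilarityGroup (F := F) (Cfsg.quadFormPlus m F))) = -1 := h5
    rw [h4] at h6
    exact absurd h6 (by decide)
  have ha2 : a * a ∈ φ.ker := by
    have : a * a = 1 := by
      apply Subtype.ext
      exact reflA_sq hm0
    rw [this]
    exact one_mem _
  obtain ⟨ht2, htr⟩ := d8_conj_of_index_two φ hφ N hNidx hkerN a haN ha2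
  have hρw := orderOf_rhoBarP_frobOut hm hFac p hF
  exact equiv_dihedral_prod (rhoBarP hm hFac) (embOut φ hφ hker)
    (embOut_injective φ hφ hker) (rhoBarP_embOut hm hFac φ hφ hker) (frobOut p)
    (frobOut_pow p hF) hρw
    (fun t => by
      obtain ⟨d, rfl⟩ := hφ t
      refine ⟨φ ⟨frobP p * d.1 * (frobP p)⁻¹, frobP_conj_mem p d.1 d.2⟩, ?_⟩
      rw [embOut_apply, embOut_apply]
      rfl)
    (φ a) ht2 htr
    (by
      rw [embOut_apply]
      exact frobOut_comm_refl p hm0)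
    (by rw [hcard])

end plus

end Cfsg.Agent.Lib.Helper5.Tri.OutPlus
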