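import Cfsg.Agent.Lib.Lead.Tri.Model
import Mathlib

/-!
# The diagonal automorphisms of the model of `Ω⁺₈(F)` which are inner (helper5)

For `c : Fin 4 → Fˣ` with `c 0 * c 2` and `c 0 * c 3` squares there is a torus element `h` of the
model with `h (xr i t) h⁻¹ = xr i (c i t)` and `h (yr i t) h⁻¹ = yr i ((c i)⁻¹ t)` for the root
elements of the four nodes.
-/

set_option autoImplicit false

namespace Cfsg.Agent.Lib.Helper5.Tri

open Matrix Cfsg Cfsg.Agent.Lib.Helper5.GLBN Cfsg.Agent.Lib.Helper8.SpBN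
open Cfsg.Agent.Lib.Helper8.Tw Cfsg.Agent.PSUT Cfsg.Agent.AutPSU
open Cfsg.Agent.Lib.Helper5.AutBN Cfsg.Agent.Lib.Helper8.AutSp Cfsg.Agent.Lib.Helper5.AutSU
open Cfsg.Agent.Lib.Helper5.AutDO Cfsg.Agent.Lib.Helper5.BN Cfsg.Agent.AutPO
open Cfsg.Agent.Lib.Helper8.AutDm Cfsg.Agent.Tri
open scoped MatrixGroups

variable {F : Type*} [Field F]

/-- the diagonal entries of the torus elements of a short node -/
theorem shortD_val {N : ℕ} (j : ℕ) (hj : 2 * j + 4 ≤ N) (a : F) (ha : a ≠ 0) (x : Fin N) :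
    (shortD (RingHom.id F) (quad j hj) a ha x : F)
      = if (x : ℕ) = j then a else if (x : ℕ) = j + 1 then a⁻¹
        else if (x : ℕ) + j + 2 = N then a else if (x : ℕ) + j + 1 = N then a⁻¹ else 1 := by
  have hx := x.2
  by_cases h0 : (x : ℕ) = j
  · rw [if_pos h0]
    have e : x = ix N j (by omega) := Fin.ext h0
    rw [e]
    exact shortD_i₀ (RingHom.id F) (quad j hj) a ha
  rw [if_neg h0]
  by_cases h1 : (x : ℕ) = j + 1
  · rw [if_pos h1]
    have e : x = ix N (j + 1) (by omega) := Fin.ext h1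
    rw [e]
    exact shortD_i₁ (RingHom.id F) (quad j hj) a ha
  rw [if_neg h1]
  by_cases h2 : (x : ℕ) + j + 2 = N
  · rw [if_pos h2]
    have e : x = (ix N (j + 1) (by omega)).rev := by
      apply Fin.ext
      rw [Fin.val_rev]
      show (x : ℕ) = N - (j + 1 + 1)
      omega
    rw [e]
    exact shortD_i₁_rev (RingHom.id F) (quad j hj) a ha
  rw [if_neg h2]
  by_cases h3 : (x : ℕ) + j + 1 = N
  · rw [if_pos h3]
    have e : x = (ix N j (by omega)).rev := by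
      apply Fin.ext
      rw [Fin.val_rev]
      show (x : ℕ) = N - (j + 1)
      omega
    rw [e]
    exact shortD_i₀_rev (RingHom.id F) (quad j hj) a ha
  rw [if_neg h3]
  rw [shortD_other (RingHom.id F) (quad j hj) a ha x]
  · rfl
  · intro e
    exact h0 (congrArg Fin.val e)
  · intro e
    exact h1 (congrArg Fin.val e)
  · intro e
    apply h2
    have := congrArg Fin.val e
    rw [Fin.val_rev] at this
    have e2 : ((ix N (j + 1) (by omega) : Fin N) : ℕ) = j + 1 := rfl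
    omega
  · intro e
    apply h3
    have := congrArg Fin.val e
    rw [Fin.val_rev] at this
    have e2 : ((ix N j (by omega) : Fin N) : ℕ) = j := rfl
    omega

variable [Fintype F]

/-- conjugating a root element by an element of the model with a diagonal matrix -/
theorem conj_diag {N : ℕ} (C : DC N) {h x x' : C.Dm F} {d : Fin N → Fˣ} (hh : C.gd h = dgU d)
    {a b : Fin N} {s s' : F} (hx : gm C x = 1 + eS a b s) (hx' : gm C x' = 1 + eS a b s')
    (hs : s' = (d a : F) * (((d b)⁻¹ : Fˣ) : F) * s) : h * x * h⁻¹ = x' := by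
  -- the diagonal entries at mirror positions are inverse to each other
  have hrev : ∀ y : Fin N, d y.rev = (d y)⁻¹ := by
    intro y
    have h1 := (mem_UH_iff.1 (C.gd_mem_UH h)) y y
    rw [hh, dgU_inv, dgU_coe, dgU_coe, Matrix.diagonal_apply_eq, Matrix.diagonal_apply_eq,
      RingHom.id_apply] at h1
    have h2 : d y = (d y.rev)⁻¹ := Units.ext h1
    rw [h2, inv_inv]
  apply gm_injective C
  rw [gm_mul, gm_mul, hx, hx']
  have e1 : gm C h = Matrix.diagonal fun i => (d i : F) := by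
    unfold gm
    rw [hh, dgU_coe]
  have e2 : gm C h⁻¹ = Matrix.diagonal fun i => (((d i)⁻¹ : Fˣ) : F) := by
    unfold gm
    rw [C.gd_inv, hh, dgU_inv, dgU_coe]
  rw [e1, e2]
  ext i k
  rw [Matrix.mul_diagonal, Matrix.diagonal_mul, hs]
  unfold eS
  simp only [Matrix.add_apply, Matrix.sub_apply, Matrix.one_apply, Matrix.single_apply]
  have T1 : (d i : F) * (if i = k then (1 : F) else 0) * (((d k)⁻¹ : Fˣ) : F)
      = if i = k then 1 else 0 := by
    by_cases hik : i = k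
    · rw [if_pos hik, hik, mul_one, Units.mul_inv]
    · rw [if_neg hik, mul_zero, zero_mul]
  have T2 : (d i : F) * (if a = i ∧ b = k then s else 0) * (((d k)⁻¹ : Fˣ) : F)
      = if a = i ∧ b = k then (d a : F) * (((d b)⁻¹ : Fˣ) : F) * s else 0 := by
    by_cases h1 : a = i ∧ b = k
    · simp only [if_pos h1]
      rw [← h1.1, ← h1.2]
      ring
    · simp only [if_neg h1, mul_zero, zero_mul]
  have T3 : (d i : F) * (if b.rev = i ∧ a.rev = k then s else 0) * (((d k)⁻¹ : Fˣ) : F)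
      = if b.rev = i ∧ a.rev = k then (d a : F) * (((d b)⁻¹ : Fˣ) : F) * s else 0 := by
    by_cases h1 : b.rev = i ∧ a.rev = k
    · simp only [if_pos h1]
      rw [← h1.1, ← h1.2, hrev b, hrev a, inv_inv]
      ring
    · simp only [if_neg h1, mul_zero, zero_mul]
  calc (d i : F) * ((if i = k then 1 else 0) + ((if a = i ∧ b = k then s else 0)
          - if b.rev = i ∧ a.rev = k then s else 0)) * (((d k)⁻¹ : Fˣ) : F)
      = (d i : F) * (if i = k then (1 : F) else 0) * (((d k)⁻¹ : Fˣ) : F)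
        + ((d i : F) * (if a = i ∧ b = k then s else 0) * (((d k)⁻¹ : Fˣ) : F)
          - (d i : F) * (if b.rev = i ∧ a.rev = k then s else 0) * (((d k)⁻¹ : Fˣ) : F)) := by
        ring
    _ = _ := by rw [T1, T2, T3]

/-- the graph automorphism on an element with a diagonal matrix -/
theorem gd_GamD_of_diag {N : ℕ} (C : DC N) {g : C.Dm F} {d : Fin N → Fˣ} (hg : C.gd g = dgU d) :
    C.gd (C.GamD g) = dgU (fun x => d (C.tau x)) := by
  apply Units.ext
  ext i k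
  have h1 := C.Gam_apply g.1 i k
  have h2 : ((Cfsg.Agent.Lib.Helper5.AutSU.gl (g : SUm N F (RingHom.id F)) : GL (Fin N) F)
      : Matrix (Fin N) (Fin N) F) = Matrix.diagonal fun x => (d x : F) := by
    have := congrArg (fun u : GL (Fin N) F => (u : Matrix (Fin N) (Fin N) F)) hg
    exact this
  show ((Cfsg.Agent.Lib.Helper5.AutSU.gl (C.Gam g.1) : GL (Fin N) F)
    : Matrix (Fin N) (Fin N) F) i k = _
  rw [h1, h2, dgU_coe, Matrix.diagonal_apply, Matrix.diagonal_apply]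
  by_cases hik : i = k
  · rw [if_pos hik, if_pos (congrArg C.tau hik)]
  · rw [if_neg hik, if_neg (fun e => hik (C.tau.injective e))]

/-- the torus elements of the chain nodes of the model of `D₄` -/
noncomputable def hc (j : ℕ) (hj : j ≤ (C4 : DC 8).κ) (a : Fˣ) : C4.Dm F :=
  ⟨Cfsg.Agent.AutPO.sO j (C4.hj_of_le hj) (dgT (a : F) a.ne_zero), C4.sO_mem_GD hj _⟩

theorem gd_hc (j : ℕ) (hj : j ≤ (C4 : DC 8).κ) (a : Fˣ) :
    C4.gd (hc j hj a : C4.Dm F)
      = dgU (shortD (RingHom.id F) (quad j (C4.hj_of_le hj)) (a : F) a.ne_zero) := by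
  show Cfsg.Agent.Lib.Helper5.AutSU.gl (Cfsg.Agent.AutPO.sO j (C4.hj_of_le hj)
    (dgT (a : F) a.ne_zero) : SUm 8 F (RingHom.id F)) = _
  rw [gl_sO', shortGL_dgT]

/-- the torus element with parameters `a₀, a₁, a₂, a₃` at the four nodes -/
noncomputable def hT (a : Fin 4 → Fˣ) : C4.Dm F :=
  hc 0 (by decide) (a 0) * hc 1 (by decide) (a 1) * hc 2 (by decide) (a 2)
    * C4.GamD (hc 2 (by decide) (a 3))

/-- the diagonal of `hT a` -/
noncomputable def dT (a : Fin 4 → Fˣ) : Fin 8 → Fˣ := fun x =>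
  shortD (RingHom.id F) (quad 0 (C4.hj_of_le (by decide))) (a 0 : F) (a 0).ne_zero x
    * shortD (RingHom.id F) (quad 1 (C4.hj_of_le (by decide))) (a 1 : F) (a 1).ne_zero x
    * shortD (RingHom.id F) (quad 2 (C4.hj_of_le (by decide))) (a 2 : F) (a 2).ne_zero x
    * shortD (RingHom.id F) (quad 2 (C4.hj_of_le (by decide))) (a 3 : F) (a 3).ne_zero (C4.tau x)

theorem gd_hT (a : Fin 4 → Fˣ) : C4.gd (hT a : C4.Dm F) = dgU (dT a) := by
  unfold hT dT
  rw [C4.gd_mul, C4.gd_mul, C4.gd_mul, gd_hc, gd_hc, gd_hc, gd_GamD_of_diag C4 (gd_hc 2 _ (a 3)),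
    dgU_mul, dgU_mul, dgU_mul]

theorem tau4_val (x : Fin 8) : ((C4.tau x : Fin 8) : ℕ) =
    if (x : ℕ) = 3 then 4 else if (x : ℕ) = 4 then 3 else (x : ℕ) := C4.tau_val x

/-- the diagonal of `hT a`, by values -/
theorem dT_val (a : Fin 4 → Fˣ) (x : Fin 8) (n n' : ℕ) (hn : (x : ℕ) = n)
    (hn' : ((C4.tau x : Fin 8) : ℕ) = n') :
    ((dT a x : Fˣ) : F)
      = (if n = 0 then (a 0 : F) else if n = 0 + 1 then (a 0 : F)⁻¹
          else if n + 0 + 2 = 8 then (a 0 : F) else if n + 0 + 1 = 8 then (a 0 : F)⁻¹ else 1)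
        * (if n = 1 then (a 1 : F) else if n = 1 + 1 then (a 1 : F)⁻¹
          else if n + 1 + 2 = 8 then (a 1 : F) else if n + 1 + 1 = 8 then (a 1 : F)⁻¹ else 1)
        * (if n = 2 then (a 2 : F) else if n = 2 + 1 then (a 2 : F)⁻¹
          else if n + 2 + 2 = 8 then (a 2 : F) else if n + 2 + 1 = 8 then (a 2 : F)⁻¹ else 1)
        * (if n' = 2 then (a 3 : F) else if n' = 2 + 1 then (a 3 : F)⁻¹
          else if n' + 2 + 2 = 8 then (a 3 : F) else if n' + 2 + 1 = 8 then (a 3 : F)⁻¹ else 1) := by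
  unfold dT
  rw [Units.val_mul, Units.val_mul, Units.val_mul, shortD_val, shortD_val, shortD_val, shortD_val,
    hn, hn']
  all_goals omega

theorem dT_0 (a : Fin 4 → Fˣ) : ((dT a 0 : Fˣ) : F) = a 0 := by
  rw [dT_val a 0 0 0 rfl (by rw [tau4_val]; rfl)]
  norm_num

theorem dT_1 (a : Fin 4 → Fˣ) : ((dT a 1 : Fˣ) : F) = (a 0 : F)⁻¹ * a 1 := by
  rw [dT_val a 1 1 1 rfl (by rw [tau4_val]; rfl)]
  norm_num

theorem dT_2 (a : Fin 4 → Fˣ) : ((dT a 2 : Fˣ) : F) = (a 1 : F)⁻¹ * a 2 * a 3 := by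
  rw [dT_val a 2 2 2 rfl (by rw [tau4_val]; rfl)]
  norm_num

theorem dT_3 (a : Fin 4 → Fˣ) : ((dT a 3 : Fˣ) : F) = (a 2 : F)⁻¹ * a 3 := by
  rw [dT_val a 3 3 4 rfl (by rw [tau4_val]; rfl)]
  norm_num

theorem dT_4 (a : Fin 4 → Fˣ) : ((dT a 4 : Fˣ) : F) = (a 2 : F) * (a 3 : F)⁻¹ := by
  rw [dT_val a 4 4 3 rfl (by rw [tau4_val]; rfl)]
  norm_num

theorem eS8_eq (a b : Fin 8) (t : F) : eS8 a b t = eS a b t := rfl

/-- the characters of the four fundamental roots on the torus element `hT a` -/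
noncomputable def cT (a : Fin 4 → Fˣ) : Fin 4 → Fˣ :=
  ![a 0 ^ 2 * (a 1)⁻¹, a 1 ^ 2 * (a 0 * a 2 * a 3)⁻¹, a 2 ^ 2 * (a 1)⁻¹, a 3 ^ 2 * (a 1)⁻¹]

theorem hT_conj_x (a : Fin 4 → Fˣ) (i : Fin 4) (t : F) :
    hT a * xr i t * (hT a)⁻¹ = xr i ((cT a i : F) * t) := by
  have n0 := (a 0).ne_zero
  have n1 := (a 1).ne_zero
  have n2 := (a 2).ne_zero
  have n3 := (a 3).ne_zero
  fin_cases i
  · refine conj_diag C4 (gd_hT a) ((gm_xr0 t).trans (by rw [eS8_eq]))
      ((gm_xr0 _).trans (by rw [eS8_eq])) ?_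
    rw [Units.val_inv_eq_inv_val, dT_0, dT_1]
    show ((a 0 ^ 2 * (a 1)⁻¹ : Fˣ) : F) * t = _
    rw [Units.val_mul, Units.val_pow_eq_pow_val, Units.val_inv_eq_inv_val]
    field_simp
  · refine conj_diag C4 (gd_hT a) ((gm_xr1 t).trans (by rw [eS8_eq]))
      ((gm_xr1 _).trans (by rw [eS8_eq])) ?_
    rw [Units.val_inv_eq_inv_val, dT_1, dT_2]
    show ((a 1 ^ 2 * (a 0 * a 2 * a 3)⁻¹ : Fˣ) : F) * t = _
    rw [Units.val_mul, Units.val_pow_eq_pow_val, Units.val_inv_eq_inv_val, Units.val_mul,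
      Units.val_mul]
    field_simp
  · refine conj_diag C4 (gd_hT a) ((gm_xr2 t).trans (by rw [eS8_eq]))
      ((gm_xr2 _).trans (by rw [eS8_eq])) ?_
    rw [Units.val_inv_eq_inv_val, dT_2, dT_3]
    show ((a 2 ^ 2 * (a 1)⁻¹ : Fˣ) : F) * t = _
    rw [Units.val_mul, Units.val_pow_eq_pow_val, Units.val_inv_eq_inv_val]
    field_simp
  · refine conj_diag C4 (gd_hT a) ((gm_xr3 t).trans (by rw [eS8_eq]))
      ((gm_xr3 _).trans (by rw [eS8_eq])) ?_
    rw [Units.val_inv_eq_inv_val, dT_2, dT_4]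
    show ((a 3 ^ 2 * (a 1)⁻¹ : Fˣ) : F) * t = _
    rw [Units.val_mul, Units.val_pow_eq_pow_val, Units.val_inv_eq_inv_val]
    field_simp

theorem hT_conj_y (a : Fin 4 → Fˣ) (i : Fin 4) (t : F) :
    hT a * yr i t * (hT a)⁻¹ = yr i ((((cT a i)⁻¹ : Fˣ) : F) * t) := by
  have n0 := (a 0).ne_zero
  have n1 := (a 1).ne_zero
  have n2 := (a 2).ne_zero
  have n3 := (a 3).ne_zero
  fin_cases i
  · refine conj_diag C4 (gd_hT a) ((gm_yr0 t).trans (by rw [eS8_eq]))
      ((gm_yr0 _).trans (by rw [eS8_eq])) ?_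
    show (((a 0 ^ 2 * (a 1)⁻¹)⁻¹ : Fˣ) : F) * t = _
    simp only [Units.val_inv_eq_inv_val, Units.val_mul, Units.val_pow_eq_pow_val, dT_0, dT_1]
    field_simp
  · refine conj_diag C4 (gd_hT a) ((gm_yr1 t).trans (by rw [eS8_eq]))
      ((gm_yr1 _).trans (by rw [eS8_eq])) ?_
    show (((a 1 ^ 2 * (a 0 * a 2 * a 3)⁻¹)⁻¹ : Fˣ) : F) * t = _
    simp only [Units.val_inv_eq_inv_val, Units.val_mul, Units.val_pow_eq_pow_val, dT_1, dT_2]
    field_simp
  · refine conj_diag C4 (gd_hT a) ((gm_yr2 t).trans (by rw [eS8_eq]))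
      ((gm_yr2 _).trans (by rw [eS8_eq])) ?_
    show (((a 2 ^ 2 * (a 1)⁻¹)⁻¹ : Fˣ) : F) * t = _
    simp only [Units.val_inv_eq_inv_val, Units.val_mul, Units.val_pow_eq_pow_val, dT_2, dT_3]
    field_simp
  · refine conj_diag C4 (gd_hT a) ((gm_yr3 t).trans (by rw [eS8_eq]))
      ((gm_yr3 _).trans (by rw [eS8_eq])) ?_
    show (((a 3 ^ 2 * (a 1)⁻¹)⁻¹ : Fˣ) : F) * t = _
    simp only [Units.val_inv_eq_inv_val, Units.val_mul, Units.val_pow_eq_pow_val, dT_2, dT_4]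
    field_simp

omit [Fintype F] in
/-- solving for the parameters of the torus element -/
theorem cT_solve (c : Fin 4 → Fˣ) (u v : Fˣ) (hu : c 0 * c 2 = u ^ 2)
    (hv : c 0 * c 3 = v ^ 2) :
    cT ![c 1 * u * v, (c 1 * u * v) ^ 2 * (c 0)⁻¹, u * (c 1 * u * v) * (c 0)⁻¹,
      v * (c 1 * u * v) * (c 0)⁻¹] = c := by
  have h2 : c 2 = (c 0)⁻¹ * u ^ 2 := by rw [← hu, inv_mul_cancel_left]
  have h3 : c 3 = (c 0)⁻¹ * v ^ 2 := by rw [← hv, inv_mul_cancel_left]
  have n0 := (c 0).ne_zero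
  have n1 := (c 1).ne_zero
  have nu := u.ne_zero
  have nv := v.ne_zero
  funext i
  fin_cases i
  · show (c 1 * u * v) ^ 2 * ((c 1 * u * v) ^ 2 * (c 0)⁻¹)⁻¹ = c 0
    apply Units.ext
    simp only [Units.val_inv_eq_inv_val, Units.val_mul, Units.val_pow_eq_pow_val]
    field_simp
  · show ((c 1 * u * v) ^ 2 * (c 0)⁻¹) ^ 2 * (c 1 * u * v * (u * (c 1 * u * v) * (c 0)⁻¹)
      * (v * (c 1 * u * v) * (c 0)⁻¹))⁻¹ = c 1
    apply Units.ext
    simp only [Units.val_inv_eq_inv_val, Units.val_mul, Units.val_pow_eq_pow_val]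
    field_simp
  · show (u * (c 1 * u * v) * (c 0)⁻¹) ^ 2 * ((c 1 * u * v) ^ 2 * (c 0)⁻¹)⁻¹ = c 2
    rw [h2]
    apply Units.ext
    simp only [Units.val_inv_eq_inv_val, Units.val_mul, Units.val_pow_eq_pow_val]
    field_simp
  · show (v * (c 1 * u * v) * (c 0)⁻¹) ^ 2 * ((c 1 * u * v) ^ 2 * (c 0)⁻¹)⁻¹ = c 3
    rw [h3]
    apply Units.ext
    simp only [Units.val_inv_eq_inv_val, Units.val_mul, Units.val_pow_eq_pow_val]
    field_simp

/-- **the inner diagonal automorphisms of the model of `D₄`**: scaling the root elements of the four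
nodes by `c` is induced by a torus element, as soon as `c 0 * c 2` and `c 0 * c 3` are squares -/
theorem exists_torus_conj (c : Fin 4 → Fˣ) (u v : Fˣ) (hu : c 0 * c 2 = u ^ 2)
    (hv : c 0 * c 3 = v ^ 2) :
    ∃ h : C4.Dm F, (∀ (i : Fin 4) (t : F), h * xr i t * h⁻¹ = xr i ((c i : F) * t))
      ∧ ∀ (i : Fin 4) (t : F), h * yr i t * h⁻¹ = yr i ((((c i)⁻¹ : Fˣ) : F) * t) := by
  have key := cT_solve c u v hu hv
  refine ⟨hT ![c 1 * u * v, (c 1 * u * v) ^ 2 * (c 0)⁻¹, u * (c 1 * u * v) * (c 0)⁻¹,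
      v * (c 1 * u * v) * (c 0)⁻¹], ?_, ?_⟩
  · intro i t
    rw [hT_conj_x, key]
  · intro i t
    rw [hT_conj_y, key]

end Cfsg.Agent.Lib.Helper5.Tri
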